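import Cfsg.Agent.H776.P4.Stmts2

/-!
# S5210 (EP): the calculus of the automorphisms `ε_κ` for `q = 3` (helper987)
-/

set_option autoImplicit false

namespace Cfsg.Agent.H987.P4

open Cfsg Cfsg.FusionSystem Cfsg.Agent.H776.P4
open Cfsg.Agent.H756.PU (HypK)

universe u

variable {K : Type u} [Field K] [StarRing K]

theorem Ep.mul {κ κ' : K} {ε ε' : MulAut (PG K)} (h : IsEp κ ε) (h' : IsEp κ' ε') : IsEp (κ + κ') (ε * ε') where
  r g := by rw [MulAut.mul_apply, h.r, h'.r]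
  a g := by
    rw [MulAut.mul_apply, h.a, h'.a, h'.r, star_add]
    ring
  b g := by
    rw [MulAut.mul_apply, h.b, h'.b, h'.r]
    ring
  c g := by rw [MulAut.mul_apply, h.c, h'.c]

theorem Ep.uniq {κ : K} {ε ε' : MulAut (PG K)} (h : IsEp κ ε) (h' : IsEp κ ε') : ε = ε' := by
  apply MulEquiv.ext
  intro g
  apply PG.ext
  · rw [h.r, h'.r]
  · rw [h.a, h'.a]
  · rw [h.b, h'.b]
  · rw [h.c, h'.c]

theorem Ep.one : IsEp (0 : K) 1 where
  r g := rfl
  a g := by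
    rw [star_zero, zero_mul, zero_mul, add_zero, sub_zero]
    rfl
  b g := by
    rw [zero_mul, add_zero]
    rfl
  c g := rfl

theorem Ep.inv {κ : K} {ε : MulAut (PG K)} (h : IsEp κ ε) : IsEp (-κ) ε⁻¹ where
  r g := by
    have h1 := h.r (ε⁻¹ g)
    rw [MulAut.apply_inv_self] at h1
    exact h1.symm
  a g := by
    have h0 := h.r (ε⁻¹ g)
    have h1 := h.a (ε⁻¹ g)
    rw [MulAut.apply_inv_self] at h0 h1
    rw [h0, h1, star_neg]
    ring
  b g := by
    have h0 := h.r (ε⁻¹ g)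
    have h1 := h.b (ε⁻¹ g)
    rw [MulAut.apply_inv_self] at h0 h1
    rw [h0, h1]
    ring
  c g := by
    have h1 := h.c (ε⁻¹ g)
    rw [MulAut.apply_inv_self] at h1
    exact h1.symm

theorem Tor.inv {d : MulAut (PG K)} {s l : K} {τ : K ≃+* K} (h : IsTorP d s l τ) :
    IsTorP d⁻¹ (τ.symm s⁻¹) (τ.symm l⁻¹) τ.symm := by
  have hst : ∀ x, τ.symm (star x) = star (τ.symm x) := by
    intro x
    apply τ.injective
    rw [h.tst, RingEquiv.apply_symm_apply, RingEquiv.apply_symm_apply]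
  have hs := h.ns
  have hl := h.nl
  have hs' : star s ≠ 0 := by simpa using hs
  refine ⟨?_, ?_, ?_, hst, fun g => ?_, fun g => ?_, fun g => ?_, fun g => ?_⟩
  · rw [Ne, map_eq_zero_iff _ τ.symm.injective]
    exact inv_ne_zero hs
  · rw [Ne, map_eq_zero_iff _ τ.symm.injective]
    exact inv_ne_zero hl
  · rw [← hst, star_inv₀, h.sl]
  · have h1 := h.r (d⁻¹ g)
    rw [MulAut.apply_inv_self] at h1
    apply τ.injective
    rw [h1, map_mul, RingEquiv.apply_symm_apply, RingEquiv.apply_symm_apply]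
    field_simp
  · have h1 := h.a (d⁻¹ g)
    rw [MulAut.apply_inv_self] at h1
    apply τ.injective
    rw [h1, map_mul, map_mul, map_mul, ← hst, star_inv₀, RingEquiv.apply_symm_apply, RingEquiv.apply_symm_apply,
      RingEquiv.apply_symm_apply, RingEquiv.apply_symm_apply]
    field_simp
  · have h1 := h.b (d⁻¹ g)
    rw [MulAut.apply_inv_self] at h1
    apply τ.injective
    rw [h1, map_mul, map_mul, RingEquiv.apply_symm_apply, RingEquiv.apply_symm_apply, RingEquiv.apply_symm_apply]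
    field_simp
  · have h1 := h.c (d⁻¹ g)
    rw [MulAut.apply_inv_self] at h1
    apply τ.injective
    rw [h1, map_mul, RingEquiv.apply_symm_apply, RingEquiv.apply_symm_apply]
    field_simp

/-- conjugation of `ε_κ` by the torus -/
theorem Ep.tor {κ : K} {d ε : MulAut (PG K)} {s l : K} {τ : K ≃+* K} (hd : IsTorP d s l τ) (h : IsEp κ ε) :
    IsEp (actK s l τ κ) (d * ε * d⁻¹) := by
  have hs := hd.ns
  have hl := hd.nl
  have hs' : star s ≠ 0 := by simpa using hs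
  have key : ∀ g, ∃ k, g = d k := fun g => ⟨d⁻¹ g, (MulAut.apply_inv_self _ d g).symm⟩
  have e : ∀ k, (d * ε * d⁻¹) (d k) = d (ε k) := by
    intro k
    rw [MulAut.mul_apply, MulAut.mul_apply, MulAut.inv_apply_self]
  refine ⟨fun g => ?_, fun g => ?_, fun g => ?_, fun g => ?_⟩
  · obtain ⟨k, rfl⟩ := key g
    rw [e, hd.r, hd.r, h.r]
  · obtain ⟨k, rfl⟩ := key g
    rw [e, hd.a, h.a, hd.a, hd.r, actK]
    simp only [map_sub, map_add, map_mul, star_mul', star_inv₀, star_star, hd.tst, hd.sl]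
    field_simp
  · obtain ⟨k, rfl⟩ := key g
    rw [e, hd.b, h.b, hd.b, hd.r, actK]
    simp only [map_add, map_mul, star_mul', hd.tst]
    field_simp
  · obtain ⟨k, rfl⟩ := key g
    rw [e, hd.c, h.c, hd.c]

theorem RP.mul {Q : Subgroup (PG K)} {α β : MulAut (PG K)} {γ δ : MulAut Q} (h : IsRP α γ) (h' : IsRP β δ) :
    IsRP (α * β) (γ * δ) := fun e => by
  rw [MulAut.mul_apply, MulAut.mul_apply, h, h']

theorem RP.inv {Q : Subgroup (PG K)} {α : MulAut (PG K)} {γ : MulAut Q} (h : IsRP α γ) : IsRP α⁻¹ γ⁻¹ := fun e => by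
  apply α.injective
  rw [← h, MulAut.apply_inv_self, MulAut.apply_inv_self]

theorem RP.uniq {Q : Subgroup (PG K)} {α : MulAut (PG K)} {γ δ : MulAut Q} (h : IsRP α γ) (h' : IsRP α δ) : γ = δ := by
  apply MulEquiv.ext
  intro e
  apply Subtype.ext
  rw [h, h']

theorem RP.one {Q : Subgroup (PG K)} : IsRP (1 : MulAut (PG K)) (1 : MulAut Q) := fun _ => rfl

theorem WQ.uniq {n n' : MulAut (PQ K)} (h : IsWQ n) (h' : IsWQ n') : n = n' := by
  apply MulEquiv.ext
  intro e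
  apply Subtype.ext
  apply PG.ext
  · rw [h.r, h'.r]
  · rw [h.a, h'.a]
  · rw [h.b, h'.b]
  · have h1 : ((n e : PQ K) : PG K).c = 0 := (n e).2
    have h2 : ((n' e : PQ K) : PG K).c = 0 := (n' e).2
    rw [h1, h2]

/-- `W_κ` conjugated by the restriction of `ε_κ'` -/
theorem Wk.conj_ep {κ κ' : K} {ε : MulAut (PG K)} {t : MulAut (PQ K)} (h : IsEp κ' ε) (ht : IsRP ε t) {γ : MulAut (PQ K)}
    (hγ : IsWk κ γ) : IsWk (κ' + κ) (t * γ * t⁻¹) := by
  obtain ⟨ε₁, n, t₁, h1, h2, h3, rfl⟩ := hγ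
  exact ⟨ε * ε₁, n, t * t₁, Ep.mul h h1, h2, RP.mul ht h3, by group⟩

/-- `W` conjugated by the restriction of an element of the torus, `l = ±1` -/
theorem WQ.conj_tor {d : MulAut (PG K)} {s l : K} {τ : K ≃+* K} (hd : IsTorP d s l τ) (hl : l * l = 1) {t : MulAut (PQ K)}
    (ht : IsRP d t) {n : MulAut (PQ K)} (hn : IsWQ n) : t * n * t⁻¹ = n ∨ t * n * t⁻¹ = n⁻¹ := by
  have hl1 : l = 1 ∨ l = -1 := by
    have : (l - 1) * (l + 1) = 0 := by linear_combination hl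
    rcases mul_eq_zero.1 this with h | h
    · exact Or.inl (sub_eq_zero.1 h)
    · exact Or.inr (eq_neg_of_add_eq_zero_left h)
  have hc : ∀ e : PQ K, ((e : PQ K) : PG K).c = 0 := fun e => e.2
  rcases hl1 with rfl | rfl
  · left
    rw [mul_inv_eq_iff_eq_mul]
    apply MulEquiv.ext
    intro e
    apply Subtype.ext
    rw [MulAut.mul_apply, MulAut.mul_apply, ht]
    apply PG.ext
    · rw [hd.r, hn.r, hn.r, ht, hd.b]
      ring
    · rw [hd.a, hn.a, hn.a, ht, hd.a, hd.r, hd.b]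
      simp only [map_sub, map_add, map_mul, star_mul', hd.tst, hd.sl]
      ring
    · rw [hd.b, hn.b, hn.b, ht, hd.r, map_neg]
      ring
    · rw [← ht, hc, hc]
  · right
    rw [mul_inv_eq_iff_eq_mul, eq_inv_mul_iff_mul_eq]
    apply MulEquiv.ext
    intro e
    apply Subtype.ext
    rw [MulAut.mul_apply, MulAut.mul_apply]
    apply PG.ext
    · rw [hn.r, ht, ht, hd.b, hn.b, hd.r, map_neg]
      ring
    · rw [hn.a, ht, ht, hd.a, hd.r, hd.b, hn.a, hn.r, hn.b, hd.a]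
      simp only [map_sub, map_add, map_mul, star_mul', star_neg, hd.tst, hd.sl, map_neg]
      ring
    · rw [hn.b, ht, ht, hd.r, hn.r, hd.b]
      ring
    · rw [hc, hc]

/-- `W_κ` conjugated by the restriction of an element of the torus -/
theorem Wk.conj_tor {κ : K} {d : MulAut (PG K)} {s l : K} {τ : K ≃+* K} (hd : IsTorP d s l τ) (hl : l * l = 1)
    {t : MulAut (PQ K)} (ht : IsRP d t) {γ : MulAut (PQ K)} (hγ : IsWk κ γ) :
    IsWk (actK s l τ κ) (t * γ * t⁻¹) ∨ IsWk (actK s l τ κ) (t * γ * t⁻¹)⁻¹ := by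
  obtain ⟨ε₁, n, t₁, h1, h2, h3, rfl⟩ := hγ
  have hε := Ep.tor hd h1
  have hr : IsRP (d * ε₁ * d⁻¹) (t * t₁ * t⁻¹) := RP.mul (RP.mul ht h3) (RP.inv ht)
  rcases WQ.conj_tor hd hl ht h2 with h | h
  · left
    refine ⟨_, n, _, hε, h2, hr, ?_⟩
    calc t * (t₁ * n * t₁⁻¹) * t⁻¹ = t * t₁ * t⁻¹ * (t * n * t⁻¹) * (t * t₁ * t⁻¹)⁻¹ := by group
      _ = _ := by rw [h]
  · right
    refine ⟨_, n, _, hε, h2, hr, ?_⟩
    calc (t * (t₁ * n * t₁⁻¹) * t⁻¹)⁻¹ = t * t₁ * t⁻¹ * (t * n * t⁻¹)⁻¹ * (t * t₁ * t⁻¹)⁻¹ := by group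
      _ = _ := by rw [h, inv_inv]

theorem mem_conj {A : Type*} [Group A] {Γ : Subgroup A} {t x : A} :
    x ∈ Γ.map (MulAut.conj t).toMonoidHom ↔ t⁻¹ * x * t ∈ Γ := by
  constructor
  · rintro ⟨y, hy, rfl⟩
    have : t⁻¹ * (MulAut.conj t).toMonoidHom y * t = y := by
      show t⁻¹ * (t * y * t⁻¹) * t = y
      group
    rw [this]
    exact hy
  · intro h
    exact ⟨_, h, by
      show t * (t⁻¹ * x * t) * t⁻¹ = x
      group⟩

theorem pt_conj_ep {κ : K} {ε : MulAut (PG K)} {t : MulAut (PQ K)} {Γ : Subgroup (MulAut (PQ K))} (h : IsEp κ ε)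
    (ht : IsRP ε t) : Pt (Γ.map (MulAut.conj t).toMonoidHom) = {x | ∃ y ∈ Pt Γ, x = κ + y} := by
  ext x
  constructor
  · rintro ⟨γ, hγ, hw⟩
    refine ⟨-κ + x, ⟨t⁻¹ * γ * t, mem_conj.1 hγ, ?_⟩, by ring⟩
    have h1 := Wk.conj_ep (Ep.inv h) (RP.inv ht) hw
    rwa [inv_inv] at h1
  · rintro ⟨y, ⟨γ, hγ, hw⟩, rfl⟩
    refine ⟨t * γ * t⁻¹, mem_conj.2 ?_, Wk.conj_ep h ht hw⟩
    have : t⁻¹ * (t * γ * t⁻¹) * t = γ := by group
    rw [this]
    exact hγ

theorem pt_conj_tor {d : MulAut (PG K)} {s l : K} {τ : K ≃+* K} {t : MulAut (PQ K)} {Γ : Subgroup (MulAut (PQ K))}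
    (hd : IsTorP d s l τ) (hl : l * l = 1) (ht : IsRP d t) :
    Pt (Γ.map (MulAut.conj t).toMonoidHom) = {x | ∃ y ∈ Pt Γ, x = actK s l τ y} := by
  have hs := hd.ns
  have hn := hd.nl
  have hs' : star s ≠ 0 := by simpa using hs
  have hi := Tor.inv hd
  ext x
  constructor
  · rintro ⟨γ, hγ, hw⟩
    have hl' : τ.symm l⁻¹ * τ.symm l⁻¹ = 1 := by
      rw [← map_mul, ← mul_inv, hl, inv_one, map_one]
    have e : x = actK s l τ (actK (τ.symm s⁻¹) (τ.symm l⁻¹) τ.symm x) := by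
      have hst : ∀ x, τ.symm (star x) = star (τ.symm x) := by
        intro x
        apply τ.injective
        rw [hd.tst, RingEquiv.apply_symm_apply, RingEquiv.apply_symm_apply]
      rw [actK, actK, ← hst]
      simp only [map_mul, map_inv₀, RingEquiv.apply_symm_apply, star_inv₀, inv_inv]
      field_simp
    refine ⟨_, ?_, e⟩
    have h2 : t⁻¹ * γ * t ∈ Γ := mem_conj.1 hγ
    rcases Wk.conj_tor hi hl' (RP.inv ht) hw with h1 | h1
    · rw [inv_inv] at h1
      exact ⟨_, h2, h1⟩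
    · rw [inv_inv] at h1
      exact ⟨_, Γ.inv_mem h2, h1⟩
  · rintro ⟨y, ⟨γ, hγ, hw⟩, rfl⟩
    have h2 : t * γ * t⁻¹ ∈ Γ.map (MulAut.conj t).toMonoidHom := by
      rw [mem_conj]
      have : t⁻¹ * (t * γ * t⁻¹) * t = γ := by group
      rw [this]
      exact hγ
    rcases Wk.conj_tor hd hl ht hw with h1 | h1
    · exact ⟨_, h2, h1⟩
    · exact ⟨_, Subgroup.inv_mem _ h2, h1⟩

theorem wk_zero {γ : MulAut (PQ K)} : IsWk 0 γ ↔ IsWQ γ := by
  constructor
  · rintro ⟨ε, n, t, h1, h2, h3, rfl⟩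
    have e1 : ε = 1 := Ep.uniq h1 Ep.one
    subst e1
    have e2 : t = 1 := RP.uniq h3 RP.one
    subst e2
    rw [one_mul, inv_one, mul_one]
    exact h2
  · intro h
    exact ⟨1, γ, 1, Ep.one, h, RP.one, by group⟩

/-- **(EP)** -/
theorem stEp : StEp.{u} := by
  intro K _ _ p n hK h3
  refine ⟨fun κ κ' ε ε' h h' => Ep.mul h h', fun κ d ε s l τ hd h => Ep.tor hd h, fun κ ε t h ht => ?_,
    fun κ ε t Γ h ht _ => pt_conj_ep h ht, fun d s l τ t Γ hd ht _ => pt_conj_tor hd ?_ ht, ?_⟩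
  · apply MulEquiv.ext
    intro e
    apply Subtype.ext
    rw [ht]
    have hr : (e : PG K).r = 0 := e.2
    apply PG.ext
    · exact h.r _
    · rw [h.a, hr, mul_zero, star_zero, mul_zero, mul_zero, add_zero, sub_zero]
      rfl
    · rw [h.b, hr, star_zero, mul_zero, add_zero]
      rfl
    · exact h.c _
  · have h1 := hd.sl
    rw [hK.star_eq, h3] at h1
    have h2 : l * (l * l - 1) = 0 := by linear_combination h1
    exact sub_eq_zero.1 ((mul_eq_zero.1 h2).resolve_left hd.nl)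
  · rw [LamP, LamQ]
    congr 2
    ext γ
    constructor
    · rintro ⟨κ, hκ, h⟩
      rw [Set.mem_singleton_iff] at hκ
      subst hκ
      exact wk_zero.1 h
    · intro h
      exact ⟨0, rfl, wk_zero.2 h⟩

end Cfsg.Agent.H987.P4
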